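import Mathlib.Algebra.Homology.HomologySequence
import Mathlib.Algebra.Homology.HomologicalComplexAbelian
import Mathlib.Algebra.Homology.ShortComplex.ExactFunctor

/-!
# Exactness of the cohomology functors of an exact functor into complexes
-/

set_option autoImplicit false
set_option linter.style.haveILetI false

open CategoryTheory Limits HomologicalComplex

namespace Groth.Agent.Lib.SiteExact.Abstract

universe v₁ v₂ u₁ u₂

variable {A : Type u₁} [Category.{v₁} A] [Abelian A] {B : Type u₂} [Category.{v₂} B] [Abelian B]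
  (Φ : A ⥤ CochainComplex B ℤ) [Φ.Additive]
  (hΦ : ∀ S : ShortComplex A, S.ShortExact → (S.map Φ).ShortExact)

/-- The `p`-th cohomology of `Φ`. -/
noncomputable abbrev H (p : ℤ) : A ⥤ B := Φ ⋙ HomologicalComplex.homologyFunctor B (ComplexShape.up ℤ) p

include hΦ

lemma exact_map (p : ℤ) {S : ShortComplex A} (hS : S.ShortExact) : (S.map (H Φ p)).Exact :=
  (hΦ S hS).homology_exact₂ p

/-- Right exactness in one degree means injectivity in the next. -/
lemma epi_iff_mono {S : ShortComplex A} (hS : S.ShortExact) (p : ℤ) :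
    Epi ((H Φ p).map S.g) ↔ Mono ((H Φ (p + 1)).map S.f) :=
  ((hΦ S hS).homology_exact₃ p (p + 1) rfl).epi_f_iff.trans
    ((hΦ S hS).homology_exact₁ p (p + 1) rfl).mono_g_iff.symm

theorem preservesFiniteColimits_iff (p : ℤ) : PreservesFiniteColimits (H Φ p) ↔
    ∀ S : ShortComplex A, S.ShortExact → Epi ((H Φ p).map S.g) := by
  have e : PreservesFiniteColimits (H Φ p) ↔ ∀ S : ShortComplex A, S.ShortExact →
      (S.map (H Φ p)).Exact ∧ Epi ((H Φ p).map S.g) :=
    (Functor.preservesFiniteColimits_tfae (H Φ p)).out 3 0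
  refine ⟨fun h S hS => ?_, fun h => e.2 fun S hS => ⟨exact_map Φ hΦ p hS, h S hS⟩⟩
  haveI := hS.epi_g
  infer_instance

theorem preservesFiniteLimits_iff (p : ℤ) : PreservesFiniteLimits (H Φ p) ↔
    ∀ S : ShortComplex A, S.ShortExact → Mono ((H Φ p).map S.f) := by
  have e : PreservesFiniteLimits (H Φ p) ↔ ∀ S : ShortComplex A, S.ShortExact →
      (S.map (H Φ p)).Exact ∧ Mono ((H Φ p).map S.f) :=
    Functor.preservesFiniteLimits_iff_forall_exact_map_and_mono _
  refine ⟨fun h S hS => ?_, fun h => e.2 fun S hS => ⟨exact_map Φ hΦ p hS, h S hS⟩⟩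
  haveI := hS.mono_f
  infer_instance

/-- Right exactness of `H^p` is left exactness of `H^{p+1}`. -/
theorem rightExact_iff_leftExact_succ (p : ℤ) :
    PreservesFiniteColimits (H Φ p) ↔ PreservesFiniteLimits (H Φ (p + 1)) := by
  rw [preservesFiniteColimits_iff Φ hΦ, preservesFiniteLimits_iff Φ hΦ]
  exact forall₂_congr fun S hS => epi_iff_mono Φ hΦ hS p

/-- `H^k` is left exact iff the opcycles in degree `k` preserve monomorphisms. -/
theorem preservesFiniteLimits_iff_mono_opcyclesMap (k : ℤ) :
    PreservesFiniteLimits (H Φ k) ↔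
      ∀ ⦃M N : A⦄ (g : M ⟶ N), Mono g → Mono (HomologicalComplex.opcyclesMap (Φ.map g) k) := by
  refine ⟨fun h M N g hg => ?_, fun h => (preservesFiniteLimits_iff Φ hΦ k).2 fun S hS => ?_⟩
  · have hk := (ComplexShape.up ℤ).next_eq' (show (ComplexShape.up ℤ).Rel k (k + 1) from rfl)
    haveI : Mono (HomologicalComplex.homologyMap (Φ.map g) k) :=
      inferInstanceAs (Mono ((H Φ k).map g))
    haveI : Mono ((Φ.map g).f (k + 1)) := by
      let S := ShortComplex.mk g (cokernel.π g) (cokernel.condition g)
      have hS : S.ShortExact := { exact := ShortComplex.exact_cokernel g }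
      haveI := (hΦ S hS).mono_f
      exact (inferInstance : Mono ((S.map Φ).f.f (k + 1)))
    rw [Preadditive.mono_iff_cancel_zero]
    intro T z hz
    have hz' : z ≫ (Φ.obj M).fromOpcycles k (k + 1) = 0 := by
      rw [← cancel_mono ((Φ.map g).f (k + 1)), zero_comp, Category.assoc]
      have e : (Φ.obj M).fromOpcycles k (k + 1) ≫ (Φ.map g).f (k + 1) =
          HomologicalComplex.opcyclesMap (Φ.map g) k ≫ (Φ.obj N).fromOpcycles k (k + 1) := by
        rw [← cancel_epi ((Φ.obj M).pOpcycles k)]
        simp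
      rw [e, reassoc_of% hz, zero_comp]
    obtain ⟨w, hw⟩ := KernelFork.IsLimit.lift' ((Φ.obj M).homologyIsKernel k (k + 1) hk) z hz'
    simp only [Fork.ι_ofι] at hw
    suffices hw0 : w = 0 by rw [← hw, hw0, zero_comp]
    rw [← cancel_mono (HomologicalComplex.homologyMap (Φ.map g) k),
      ← cancel_mono ((Φ.obj N).homologyι k), zero_comp, zero_comp, Category.assoc,
      HomologicalComplex.homologyι_naturality, reassoc_of% hw]
    exact hz
  · haveI := h S.f hS.mono_f
    haveI : Mono (HomologicalComplex.homologyMap (Φ.map S.f) k ≫ (Φ.obj S.X₂).homologyι k) := by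
      rw [homologyι_naturality]; infer_instance
    show Mono (HomologicalComplex.homologyMap (Φ.map S.f) k)
    exact mono_of_mono (HomologicalComplex.homologyMap (Φ.map S.f) k) ((Φ.obj S.X₂).homologyι k)

end Groth.Agent.Lib.SiteExact.Abstract
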