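import Groth.Prelude.Def_KFlatSite
import Groth.Agent.Lib.SiteExact.Abstract
import Groth.Agent.Lib.SiteKFlat.Thms
import Groth.Agent.Lib.SiteKFlat.Exact
import Groth.Agent.Lib.ModTensor.FlatMono
import Groth.Agent.Lib.DerivedOX.LeftDerived
import Groth.Agent.Lib.DerivedOX.SingleTensor

/-!
# `H^p(M[0] ⊗^L E)` on a ringed site
-/

set_option autoImplicit false
set_option linter.style.haveILetI false

universe u

open CategoryTheory Limits HomologicalComplex

attribute [local instance] HasDerivedCategory.standard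

namespace Groth.Agent.Lib.SiteExact.Derived

open Groth.Agent.Lib Groth.Agent.Lib.SiteKFlat Groth.Agent.Lib.SiteKFlat.Thms
open Groth.Agent.Lib.SiteKFlat.Cx Groth.Agent.Lib.DerivedOX

variable {C : Type u} [SmallCategory C] {J : GrothendieckTopology C} {O : Sheaf J CommRingCat.{u}}

lemma acyclic_res_tensor (K : CochainComplex (ModSite.Mod O) ℤ) {L : CochainComplex (ModSite.Mod O) ℤ}
    (hL : L.Acyclic) : (((ModSite.tensorCx O).obj ((Basic.res O).obj K)).obj L).Acyclic :=
  (Basic.acyclic_tensor_of_cof (LeftRes.cof_resolution (G := Basic.G O) K) hL).2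

/-- `P ⊗ -` preserves quasi-isomorphisms if it preserves acyclic complexes. -/
theorem quasiIso_obj_map {P : CochainComplex (ModSite.Mod O) ℤ}
    (hP : ∀ L : CochainComplex (ModSite.Mod O) ℤ, L.Acyclic →
      (((ModSite.tensorCx O).obj P).obj L).Acyclic)
    {A B : CochainComplex (ModSite.Mod O) ℤ} (φ : A ⟶ B) [QuasiIso φ] :
    QuasiIso (((ModSite.tensorCx O).obj P).map φ) :=
  quasiIso_map ((ModSite.tensorCx O).obj P) φ
    (Bifunctor.acyclic_obj_of_homotopy_zero _ P (CochainComplex.mappingCone.homotopyToZeroOfId A))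
    (mono_obj_map_of_split (graphSplitting φ) P)
    (hP _ (acyclic_graph_cokernel φ))

/-- `- ⊗ E` preserves quasi-isomorphisms of resolved complexes. -/
theorem quasiIso_map_app {P Q : CochainComplex (ModSite.Mod O) ℤ}
    (hP : ∀ L : CochainComplex (ModSite.Mod O) ℤ, L.Acyclic →
      (((ModSite.tensorCx O).obj P).obj L).Acyclic)
    (hQ : ∀ L : CochainComplex (ModSite.Mod O) ℤ, L.Acyclic →
      (((ModSite.tensorCx O).obj Q).obj L).Acyclic)
    (g : P ⟶ Q) [QuasiIso g] (E : CochainComplex (ModSite.Mod O) ℤ) :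
    QuasiIso (((ModSite.tensorCx O).map g).app E) := by
  let r : (Basic.res O).obj E ⟶ E := (Basic.aug O).app E
  haveI : QuasiIso r := Basic.quasiIso_aug E
  haveI := quasiIso_tensor_of_isKFlat (Basic.isKFlat_res E) g
  haveI : QuasiIso (((ModSite.tensorCx O).map g).app ((Basic.res O).obj E)) :=
    quasiIso_tensor_of_isKFlat (Basic.isKFlat_res E) g
  haveI := quasiIso_obj_map hP r
  haveI := quasiIso_obj_map hQ r
  haveI : QuasiIso (((ModSite.tensorCx O).obj P).map r ≫ ((ModSite.tensorCx O).map g).app E) := by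
    rw [((ModSite.tensorCx O).map g).naturality r]
    infer_instance
  exact quasiIso_of_comp_left (((ModSite.tensorCx O).obj P).map r) _

theorem isAdapted_tensorCxQ (E : CochainComplex (ModSite.Mod O) ℤ) :
    LeftDerived.IsAdapted (quasiIso (ModSite.Mod O) (.up ℤ)) (ModSite.tensorCxQ E) (Basic.res O)
      (Basic.aug O) where
  mem K := Basic.quasiIso_aug K
  inverts A B g (hg : QuasiIso g) := by
    haveI : QuasiIso ((Basic.res O).map g) := by
      haveI : QuasiIso ((Basic.res O).map g ≫ (Basic.aug O).app B) := by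
        rw [(Basic.aug O).naturality g]
        exact inferInstanceAs (QuasiIso ((Basic.aug O).app A ≫ g))
      exact quasiIso_of_comp_right _ ((Basic.aug O).app B)
    exact Localization.inverts DerivedCategory.Q (quasiIso (ModSite.Mod O) (.up ℤ)) _
      (quasiIso_map_app (fun _ => acyclic_res_tensor A) (fun _ => acyclic_res_tensor B)
        ((Basic.res O).map g) E)
  isIso_resolved K :=
    Localization.inverts DerivedCategory.Q (quasiIso (ModSite.Mod O) (.up ℤ)) _
      (quasiIso_map_app (fun _ => acyclic_res_tensor _) (fun _ => acyclic_res_tensor K)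
        ((Basic.aug O).app ((Basic.res O).obj K)) E)

/-- `M ↦ M ⊗ P`, termwise. -/
noncomputable def FP (P : CochainComplex (ModSite.Mod O) ℤ) :
    ModSite.Mod O ⥤ CochainComplex (ModSite.Mod O) ℤ where
  obj M := (((ModSite.tensorBi O).obj M).mapHomologicalComplex (ComplexShape.up ℤ)).obj P
  map g := (NatTrans.mapHomologicalComplex ((ModSite.tensorBi O).map g) (ComplexShape.up ℤ)).app P
  map_id M := by
    refine HomologicalComplex.hom_ext _ _ fun i => ?_
    simp
  map_comp f g := by
    refine HomologicalComplex.hom_ext _ _ fun i => ?_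
    simp

instance FP_additive (P : CochainComplex (ModSite.Mod O) ℤ) : (FP P).Additive where
  map_add {M N f g} := by
    refine HomologicalComplex.hom_ext _ _ fun i => ?_
    exact congrArg (fun η => η.app (P.X i)) ((ModSite.tensorBi O).map_add (f := f) (g := g))

theorem shortExact_map_FP {P : CochainComplex (ModSite.Mod O) ℤ}
    (hflat : ∀ i, ModSite.IsFlat (P.X i)) (S : ShortComplex (ModSite.Mod O)) (hS : S.ShortExact) :
    (S.map (FP P)).ShortExact := by
  refine HomologicalComplex.shortExact_of_degreewise_shortExact _ fun i => ?_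
  haveI := (hflat i).1
  exact hS.map_of_exact ((ModSite.tensorBi O).flip.obj (P.X i))

/-- `M[0] ⊗ P` is `M ⊗ P` termwise, naturally in `M`. -/
noncomputable def singleIso (P : CochainComplex (ModSite.Mod O) ℤ) :
    FP P ≅ HomologicalComplex.single (ModSite.Mod O) (ComplexShape.up ℤ) 0 ⋙
      (ModSite.tensorCx O).flip.obj P :=
  NatIso.ofComponents (fun M => (SingleTensor.singleZeroIso (ModSite.tensorBi O) M).app P)
    fun {M N} g => by
      refine HomologicalComplex.hom_ext _ _ fun m => ?_
      change (((ModSite.tensorBi O).map g).app (P.X m)) ≫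
          Bifunctor.singleHom₁ (ModSite.tensorBi O) N 0 P m m (zero_add m) =
        Bifunctor.singleHom₁ (ModSite.tensorBi O) M 0 P m m (zero_add m) ≫
          (mapBifunctorMap ((single (ModSite.Mod O) (ComplexShape.up ℤ) 0).map g) (𝟙 P)
            (ModSite.tensorBi O) (ComplexShape.up ℤ)).f m
      dsimp only [Bifunctor.singleHom₁]
      rw [Category.assoc, ι_mapBifunctorMap, single_map_f_self, HomologicalComplex.id_f,
        CategoryTheory.Functor.map_id, Category.id_comp, ← Category.assoc, ← Category.assoc,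
        ← NatTrans.comp_app, ← Functor.map_comp, ← NatTrans.comp_app, ← Functor.map_comp,
        Iso.inv_hom_id_assoc]

/-- `H^p(M[0] ⊗^L E) ≅ H^p(M ⊗ P)`, naturally in `M`. -/
theorem nonempty_iso (E : CochainComplex (ModSite.Mod O) ℤ) [ModSite.HasLTensorCx E]
    {P : CochainComplex (ModSite.Mod O) ℤ} (s : P ⟶ E) [QuasiIso s] (hP : ModSite.IsKFlat P)
    (p : ℤ) :
    Nonempty (DerivedCategory.singleFunctor (ModSite.Mod O) 0 ⋙ ModSite.LTensorCx E ⋙
      DerivedCategory.homologyFunctor (ModSite.Mod O) p ≅ Abstract.H (FP P) p) := by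
  let Q := DerivedCategory.Q (C := ModSite.Mod O)
  let W := HomologicalComplex.quasiIso (ModSite.Mod O) (ComplexShape.up ℤ)
  let T := ModSite.LTensorCx E
  let α : Q ⋙ T ⟶ ModSite.tensorCxQ E := (ModSite.tensorCxQ E).totalLeftDerivedCounit Q W
  let S := HomologicalComplex.single (ModSite.Mod O) (ComplexShape.up ℤ) 0
  let R := S ⋙ Basic.res O
  let η₁ : R ⋙ Q ⋙ T ⟶ S ⋙ Q ⋙ T :=
    Functor.whiskerRight (Functor.whiskerLeft S (Basic.aug O)) (Q ⋙ T)
  let η₂ : R ⋙ Q ⋙ T ⟶ R ⋙ ModSite.tensorCxQ E := Functor.whiskerLeft R α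
  let η₃ : R ⋙ ModSite.tensorCxQ P ⟶ R ⋙ ModSite.tensorCxQ E :=
    Functor.whiskerLeft R (Functor.whiskerRight ((ModSite.tensorCx O).flip.map s) Q)
  let η₄ : R ⋙ ModSite.tensorCxQ P ⟶ S ⋙ ModSite.tensorCxQ P :=
    Functor.whiskerRight (Functor.whiskerLeft S (Basic.aug O)) (ModSite.tensorCxQ P)
  have h₁ : ∀ M, IsIso (η₁.app M) := fun M => by
    haveI : QuasiIso ((Basic.aug O).app (S.obj M)) := Basic.quasiIso_aug _
    haveI : IsIso (Q.map ((Basic.aug O).app (S.obj M))) := inferInstance
    exact inferInstanceAs (IsIso (T.map (Q.map ((Basic.aug O).app (S.obj M)))))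
  have h₂ : ∀ M, IsIso (η₂.app M) := fun M => by
    haveI := (isAdapted_tensorCxQ E).isIso_resolved (S.obj M)
    exact LeftDerived.isIso_counit_app (isAdapted_tensorCxQ E) Q T α ((Basic.res O).obj (S.obj M))
  have h₃ : ∀ M, IsIso (η₃.app M) := fun M => by
    haveI := quasiIso_obj_map (P := (Basic.res O).obj (S.obj M))
      (fun _ => acyclic_res_tensor (S.obj M)) s
    exact inferInstanceAs
      (IsIso (Q.map (((ModSite.tensorCx O).obj ((Basic.res O).obj (S.obj M))).map s)))
  have h₄ : ∀ M, IsIso (η₄.app M) := fun M => by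
    haveI : QuasiIso ((Basic.aug O).app (S.obj M)) := Basic.quasiIso_aug _
    haveI := quasiIso_tensor_of_isKFlat hP ((Basic.aug O).app (S.obj M))
    exact inferInstanceAs
      (IsIso (Q.map (((ModSite.tensorCx O).flip.obj P).map ((Basic.aug O).app (S.obj M)))))
  haveI := NatIso.isIso_of_isIso_app η₁
  haveI := NatIso.isIso_of_isIso_app η₂
  haveI := NatIso.isIso_of_isIso_app η₃
  haveI := NatIso.isIso_of_isIso_app η₄
  let e : S ⋙ Q ⋙ T ≅ S ⋙ ModSite.tensorCxQ P :=
    (asIso η₁).symm ≪≫ asIso η₂ ≪≫ (asIso η₃).symm ≪≫ asIso η₄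
  exact ⟨Functor.isoWhiskerRight (DerivedCategory.singleFunctorIsoCompQ (ModSite.Mod O) 0)
      (T ⋙ DerivedCategory.homologyFunctor (ModSite.Mod O) p) ≪≫
    Functor.isoWhiskerRight e (DerivedCategory.homologyFunctor (ModSite.Mod O) p) ≪≫
    Functor.isoWhiskerLeft (S ⋙ (ModSite.tensorCx O).flip.obj P)
      (DerivedCategory.homologyFunctorFactors (ModSite.Mod O) p) ≪≫
    Functor.isoWhiskerRight (singleIso P).symm _⟩

/-- `H^k(- ⊗ P)` is left exact iff the opcycles of `P` in degree `k` are flat. -/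
theorem leftExact_iff_isFlat_opcycles {P : CochainComplex (ModSite.Mod O) ℤ}
    (hflat : ∀ i, ModSite.IsFlat (P.X i)) (k : ℤ) :
    PreservesFiniteLimits (Abstract.H (FP P) k) ↔ ModSite.IsFlat (P.opcycles k) := by
  rw [Abstract.preservesFiniteLimits_iff_mono_opcyclesMap (FP P) (shortExact_map_FP hflat) k,
    ModTensor.FlatMono.isFlat_iff_mono]
  refine forall₃_congr fun M N g => forall_congr' fun _ => ?_
  let T := ModSite.tensorBi O
  have hp := (ComplexShape.up ℤ).prev_eq' (show (ComplexShape.up ℤ).Rel (k - 1) k by simp)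
  let hc := fun A : ModSite.Mod O =>
    CokernelCofork.mapIsColimit _ (P.opcyclesIsCokernel (k - 1) k hp) (T.obj A)
  let e : ∀ A, ((FP P).obj A).opcycles k ≅ (T.obj A).obj (P.opcycles k) := fun A =>
    (((FP P).obj A).opcyclesIsCokernel (k - 1) k hp).coconePointUniqueUpToIso (hc A)
  have he : ∀ A, ((FP P).obj A).pOpcycles k ≫ (e A).hom = (T.obj A).map (P.pOpcycles k) := fun A =>
    IsColimit.comp_coconePointUniqueUpToIso_hom
      (((FP P).obj A).opcyclesIsCokernel (k - 1) k hp) (hc A) WalkingParallelPair.one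
  have sq : HomologicalComplex.opcyclesMap ((FP P).map g) k ≫ (e N).hom =
      (e M).hom ≫ (T.map g).app (P.opcycles k) := by
    rw [← cancel_epi (((FP P).obj M).pOpcycles k), p_opcyclesMap_assoc, he N, ← Category.assoc, he M]
    exact ((T.map g).naturality (P.pOpcycles k)).symm
  exact (MorphismProperty.monomorphisms _).arrow_mk_iso_iff
    (Arrow.isoMk' (HomologicalComplex.opcyclesMap ((FP P).map g) k) ((T.map g).app (P.opcycles k))
      (e M) (e N) sq.symm)

end Groth.Agent.Lib.SiteExact.Derived
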