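import Groth.Agent.Lib.SiteExact.Derived

/-!
# Flat amplitudes add
-/

set_option autoImplicit false
set_option linter.style.haveILetI false

universe u

open CategoryTheory Limits HomologicalComplex

attribute [local instance] HasDerivedCategory.standard

namespace Groth.Agent.Lib.SiteExact.FlatAmp

open Groth.Agent.Lib Groth.Agent.Lib.SiteKFlat Groth.Agent.Lib.DerivedOX

variable {C : Type u} [SmallCategory C] {J : GrothendieckTopology C} {O : Sheaf J CommRingCat.{u}}

lemma hasExactColimitsOfShape_small (I : Type) :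
    HasExactColimitsOfShape (Discrete I) (ModSite.Mod O) := by
  haveI : HasFiniteBiproducts (ModSite.Mod O) := HasFiniteBiproducts.of_hasFiniteProducts
  haveI := AB4.of_AB5 (ModSite.Mod O)
  exact AB4OfSize.ofShape _

theorem isFlat_tensorCx_X {A B : CochainComplex (ModSite.Mod O) ℤ}
    (hA : ∀ i, ModSite.IsFlat (A.X i)) (hB : ∀ i, ModSite.IsFlat (B.X i)) (n : ℤ) :
    ModSite.IsFlat ((((ModSite.tensorCx O).obj A).obj B).X n) := by
  let G := (((ModSite.tensorBi O).mapBifunctorHomologicalComplex (ComplexShape.up ℤ)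
    (ComplexShape.up ℤ)).obj A).obj B
  let π := ComplexShape.π (ComplexShape.up ℤ) (ComplexShape.up ℤ) (ComplexShape.up ℤ)
  haveI := hasExactColimitsOfShape_small (O := O) (π ⁻¹' {n} : Set (ℤ × ℤ))
  exact ModTensor.Flat.isFlat_of_isColimit O (I := Discrete ↥(π ⁻¹' {n} : Set (ℤ × ℤ)))
    (fun M => haveI : PreservesColimitsOfSize.{0, 0} ((ModSite.tensorBi O).obj M) :=
      preservesSmallestColimits_of_preservesColimits _
      inferInstance) (Discrete.functor (G.toGradedObject.mapObjFun π n))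
    (fun i => ModTensor.Flat.isFlat_tensor O _ _ (hA i.as.1.1) (hB i.as.1.2)) _
    (G.toGradedObject.isColimitCofanMapObj π n)

theorem isZero_tensorCx_X (A B : CochainComplex (ModSite.Mod O) ℤ) (n : ℤ)
    (h : ∀ p q, p + q = n → IsZero (A.X p) ∨ IsZero (B.X q)) :
    IsZero ((((ModSite.tensorCx O).obj A).obj B).X n) := by
  rw [IsZero.iff_id_eq_zero]
  refine mapBifunctor.hom_ext fun p q hpq => IsZero.eq_of_src ?_ _ _
  change p + q = n at hpq
  rcases h p q hpq with hz | hz
  · exact ((ModSite.tensorBi O).flip.obj (B.X q)).map_isZero hz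
  · exact ((ModSite.tensorBi O).obj (A.X p)).map_isZero hz

/-- `Q P ⊗^L F ≅ Q (P ⊗ F)` for K-flat `F`. -/
theorem nonempty_LTensor_iso (F P : CochainComplex (ModSite.Mod O) ℤ) [ModSite.HasLTensorCx F]
    (hF : ModSite.IsKFlat F) :
    Nonempty ((ModSite.LTensorCx F).obj (DerivedCategory.Q.obj P) ≅
      DerivedCategory.Q.obj (((ModSite.tensorCx O).obj P).obj F)) := by
  let Q := DerivedCategory.Q (C := ModSite.Mod O)
  let W := HomologicalComplex.quasiIso (ModSite.Mod O) (ComplexShape.up ℤ)
  let α : Q ⋙ ModSite.LTensorCx F ⟶ ModSite.tensorCxQ F :=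
    (ModSite.tensorCxQ F).totalLeftDerivedCounit Q W
  haveI : QuasiIso ((Basic.aug O).app P) := Basic.quasiIso_aug P
  haveI : IsIso ((ModSite.tensorCxQ F).map ((Basic.aug O).app P)) :=
    Localization.inverts Q W _ (Thms.quasiIso_tensor_of_isKFlat hF ((Basic.aug O).app P))
  haveI := LeftDerived.isIso_counit_app (Derived.isAdapted_tensorCxQ F) Q (ModSite.LTensorCx F) α P
  exact ⟨asIso (α.app P)⟩

end Groth.Agent.Lib.SiteExact.FlatAmp
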